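import Groth.Agent.Lib.RelPCS8.TorRpush
import Groth.Agent.Lib.RelPCS8.StalkId
import Groth.Agent.Lib.Poinc13.Push
import Groth.Agent.Lib.VanFib13.Apply
import Groth.Agent.Lib.LimH13.FibDimStage
import Groth.Agent.Lib.DGen9.Basics
import Groth.Agent.Lib.DPerf.OneDegree
import Groth.Agent.Lib.KFlat.LTor
import Groth.Agent.Lib.CohFound.RpushHc

/-! Tor amplitude of derived direct images along flat proper morphisms with bounded fibre dimension. -/

set_option autoImplicit false
set_option linter.style.haveILetI false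
set_option linter.unusedSectionVars false
set_option backward.isDefEq.respectTransparency false
set_option backward.isDefEq.respectTransparency.types false
set_option maxHeartbeats 1000000

universe u

open CategoryTheory CategoryTheory.Limits AlgebraicGeometry

attribute [local instance] HasDerivedCategory.standard

namespace Groth.Agent.PushAmp9

open RelPCS8.TorMV

variable {X Y : Scheme.{u}} (f : X ⟶ Y)

theorem flat_restrict_of_flat {A B : Type u} [CommRing A] [CommRing B] (ψ : A →+* B)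
    (hψ : ψ.Flat) (M : ModuleCat.{u} B) [Module.Flat B M] :
    Module.Flat A ((ModuleCat.restrictScalars.{u} ψ).obj M) := by
  letI := ψ.toAlgebra
  haveI : Module.Flat A B := hψ
  letI : Module A M := Module.compHom M ψ
  haveI : IsScalarTower A B M := IsScalarTower.of_algebraMap_smul fun _ _ => rfl
  exact Module.Flat.trans A B M

theorem ta_of_flatAmplitude [Flat f] {E : DCoh.D X} {a b : ℤ} (h : DCoh.HasFlatAmplitudeIn a b E) :
    TA f a b E := by
  obtain ⟨F, hF, hflat, ⟨e⟩⟩ := h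
  refine ta_iso f e ((ta_toD_iff f a b F).2 fun x => ⟨(DerSch.stalkCxOver f x).obj F,
    fun i hi => (DerSch.stalkOver f x).map_isZero (hF i hi), fun i => ?_, ⟨Iso.refl _⟩⟩)
  haveI : Module.Flat (X.presheaf.stalk x) ((DerSch.stalkFunctor X x).obj (F.X i)) := hflat i x
  exact flat_restrict_of_flat _ (Flat.stalkMap f x) ((DerSch.stalkFunctor X x).obj (F.X i))

theorem flatAmplitude_of_ta {K : DCoh.D Y} {a b : ℤ} (h : TA (𝟙 Y) a b K) :
    DCoh.HasFlatAmplitudeIn a b K := by
  obtain ⟨I, hI, ⟨e⟩⟩ := KInjLib.exists_iso_kInjective K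
  haveI := RelPCS8.TorRpush.ta_isLE _ h
  haveI : (DCoh.toD Y I).IsLE b :=
    (DerivedCategory.isLE_iff _ b).2 fun i hi => (DerivedCategory.isZero_of_isLE _ b i hi).of_iso
      ((DerivedCategory.homologyFunctor _ i).mapIso e.symm)
  obtain ⟨E, hv, hf, ⟨e'⟩⟩ := (RelPCS8.StalkId.flatAmplitude_iff_torAmp_stalks I b a b).2 ((ta_toD_iff _ a b I).1 (ta_iso _ e h))
  exact ⟨E, hv, hf, ⟨e' ≪≫ e.symm⟩⟩

/-- Derived direct images of quasi-coherent modules vanish above the fibre dimension. -/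
theorem isZero_hd_rpush [IsProper f] [DCoh.HasRpush f] (n : ℕ)
    (hd : ∀ y, topologicalKrullDim ↥(f.fiber y) ≤ (n : WithBot ℕ∞)) (M : X.Modules) (hM : Coh.IsQCoh M)
    (i : ℤ) (hi : (n : ℤ) < i) : IsZero (DCoh.HD ((DCoh.Rpush f).obj (DCoh.inD X M)) i) := by
  obtain ⟨p, rfl⟩ : ∃ p : ℕ, i = p := ⟨i.toNat, by omega⟩
  haveI : HasInjectiveResolutions X.Modules := inferInstance
  obtain ⟨e⟩ := Poinc13.nonempty_hd_rpush f M p
  refine IsZero.of_iso (DPerf.isZero_of_stalks fun y => ?_) e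
  obtain ⟨a⟩ := CohFound.nonempty_abF_rpush_iso_shPre f M p
  obtain ⟨b⟩ := CohFound.nonempty_rpush_iso_shPre (f.base : CohFound.sp X ⟶ CohFound.sp Y)
    ((CohFound.abF X).obj M) p
  have h := VanFib13.isZero_stalk_rpushAb f y n (hd y) hM (n := p) (by omega)
  let c : (CohFound.abF Y).obj ((Coh.Rpush f p).obj M) ≅ (Coh.RpushAb f p).obj ((CohFound.abF X).obj M) :=
    a ≪≫ b.symm
  have h' : IsZero (TopCat.Presheaf.stalk ((CohFound.abF Y).obj ((Coh.Rpush f p).obj M)).obj y) :=
    h.of_iso ((TopCat.Presheaf.stalkFunctor AddCommGrpCat.{u} y).mapIso ((sheafToPresheaf _ _).mapIso c))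
  exact AddCommGrpCat.subsingleton_of_isZero h'

theorem torAmplitude_rpush [Flat f] [IsProper f] [DCoh.HasRpush f] (n : ℕ)
    (hd : ∀ x, FlatMor.fibreDimAt f x ≤ (n : WithBot ℕ∞)) {E : DCoh.D X} (hE : DCoh.IsQCohD E) {a b : ℤ}
    (hab : DCoh.HasFlatAmplitudeIn a b E) :
    DCoh.HasTorAmplitudeIn a (b + n) ((DCoh.Rpush f).obj E) := by
  refine KFlat.Sch.torAmplitude_of_flatAmplitude (flatAmplitude_of_ta ?_)
  have hab' := hab
  obtain ⟨F, hF, -, ⟨e⟩⟩ := hab'
  haveI : E.IsGE a := (DerivedCategory.isGE_iff _ a).2 fun i hi => IsZero.of_iso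
    ((HomologicalComplex.ExactAt.of_isZero (hF i (Or.inl hi))).isZero_homology)
    ((DerivedCategory.homologyFunctor _ i).mapIso e.symm ≪≫ (DerivedCategory.homologyFunctorFactors _ i).app F)
  exact RelPCS8.TorRpush.ta_rpush f (𝟙 Y) f (Category.comp_id f) n
    (isZero_hd_rpush f n ((LimH13.forall_dim_fiber_le_iff f _).2 hd)) hE a (ta_of_flatAmplitude f hab)

end Groth.Agent.PushAmp9
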